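import Mathlib
import Cfsg.Agent.Lib.Helper16.BRStmt
import Cfsg.Agent.Lib.CT.NormOne
import Cfsg.Agent.Lib.CT.Ops
import Cfsg.Agent.Lib.CT.LinChar
import Cfsg.Agent.Lib.CT.Orth

/-!
# Brauer–Reynolds, piece [PH2]: restriction of the irreducible characters to `N_G(P)`

`N = P ⋊ ⟨y⟩` with `N / P` cyclic of order `e`; `λ_i (x y^j) = ω^(i j)`; `mult χ i` is the
multiplicity of `λ_i` in `χ|_N`.
-/

set_option autoImplicit false
set_option linter.unusedVariables false
set_option linter.style.haveILetI false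
set_option linter.unusedSectionVars false

namespace Cfsg.Agent.Lib.Helper46.BRPH2

open Cfsg Cfsg.Agent.Lib.CT Cfsg.Agent.Lib.CT.Wedderburn Cfsg.Agent.Lib.CT.ThirdMain
  Cfsg.Agent.Lib.Helper16.BRSpec
open scoped ComplexConjugate

universe u

theorem geom_sum_root {ζ : ℂ} {e : ℕ} (h : ζ ^ e = 1) :
    ∑ i ∈ Finset.range e, ζ ^ i = if ζ = 1 then (e : ℂ) else 0 := by
  split_ifs with h1
  · subst h1; simp
  · have h2 := geom_sum_mul ζ e
    rw [h, sub_self] at h2
    exact (mul_eq_zero.1 h2).resolve_right (sub_ne_zero.2 h1)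

theorem finsum_mem_sub {G : Type u} [Group G] [Fintype G] (P : Subgroup G) [Fintype ↥P]
    (f : G → ℂ) : ∑ᶠ x ∈ (P : Set G), f x = ∑ x : ↥P, f x := by
  classical
  rw [finsum_mem_eq_finite_toFinset_sum f (Set.toFinite _)]
  rw [Finset.sum_subtype (p := fun a : G => a ∈ P) _ (by intro a; simp) f]

theorem core {G : Type u} [Group G] [Finite G] (N P : Subgroup G) (hPN : P ≤ N) (p e : ℕ)
    (hp : p ≠ 0) (hPc : Nat.card P = p) (hNc : Nat.card N = p * e) (y : G) (hyN : y ∈ N)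
    (hyo : orderOf y = e) (hyP : ∀ j, 0 < j → j < e → y ^ j ∉ P)
    (hcov : ∀ g ∈ N, ∃ x ∈ P, ∃ j, j < e ∧ g = x * y ^ j)
    (hnorm : ∀ a : ℕ, ∀ x ∈ P, y ^ a * x * (y ^ a)⁻¹ ∈ P)
    (hconj : ∀ x ∈ P, ∀ j, 0 < j → j < e → IsConj (x * y ^ j) (y ^ j)) :
    ∃ (ω : ℂ) (mult : IrrCharacter G → ℕ → ℕ), IsPrimitiveRoot ω e ∧
      (∀ i, i < e → ∑ᶠ χ : IrrCharacter G, ((mult χ i : ℂ) * (χ : G → ℂ) 1) = (N.index : ℂ)) ∧
      (∀ χ : IrrCharacter G, (p : ℂ) * ∑ i ∈ Finset.range e, (mult χ i : ℂ) =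
        ∑ᶠ x ∈ (P : Set G), (χ : G → ℂ) x) ∧
      (∀ χ : IrrCharacter G, ∀ j, 0 < j → j < e →
        (χ : G → ℂ) (y ^ j) = ∑ i ∈ Finset.range e, (mult χ i : ℂ) * ω ^ (i * j)) ∧
      (∀ χ χ' : IrrCharacter G, (∀ g, (χ' : G → ℂ) g = conj ((χ : G → ℂ) g)) →
        ∀ i, i < e → mult χ' ((e - i) % e) = mult χ i) := by
  classical
  haveI : Fintype G := Fintype.ofFinite G
  haveI : Fintype ↥N := Fintype.ofFinite _
  haveI : Fintype ↥P := Fintype.ofFinite _
  have he0 : e ≠ 0 := by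
    rintro rfl
    rw [mul_zero] at hNc
    exact (Nat.card_pos (α := ↥N)).ne' hNc
  have hye : y ^ e = 1 := by rw [← hyo]; exact pow_orderOf_eq_one y
  obtain ⟨ω, hω⟩ : ∃ ω : ℂ, IsPrimitiveRoot ω e := ⟨_, Complex.isPrimitiveRoot_exp e he0⟩
  have hωe : ω ^ e = 1 := hω.pow_eq_one
  have hω0 : ω ≠ 0 := hω.ne_zero he0
  obtain ⟨c, hc⟩ : ∃ c : ℂ, c = conj ω := ⟨_, rfl⟩
  have hcc : conj c = ω := by rw [hc, Complex.conj_conj]
  have hcω : c * ω = 1 := by
    rw [hc, Complex.conj_mul', hω.norm'_eq_one he0]; simp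
  have hce : c ^ e = 1 := by rw [hc, ← map_pow, hωe, map_one]
  -- uniqueness of the exponent
  have L0 : ∀ (a b : ℕ) (x x' : G), x ∈ P → x' ∈ P → a < b → b < e →
      x * y ^ a = x' * y ^ b → False := by
    intro a b x x' hx hx' hab hb h
    have h1 : x' * y ^ b = x' * y ^ (b - a) * y ^ a := by
      rw [mul_assoc, ← pow_add, Nat.sub_add_cancel hab.le]
    rw [h1] at h
    have h2 : x = x' * y ^ (b - a) := mul_right_cancel h
    have h3 : y ^ (b - a) = x'⁻¹ * x := by rw [h2]; group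
    exact hyP (b - a) (by omega) (by omega) (h3 ▸ P.mul_mem (P.inv_mem hx') hx)
  have L1 : ∀ (a b : ℕ) (x x' : G), x ∈ P → x' ∈ P → a < e → b < e →
      x * y ^ a = x' * y ^ b → a = b := by
    intro a b x x' hx hx' ha hb h
    rcases Nat.lt_trichotomy a b with h1 | h1 | h1
    · exact (L0 a b x x' hx hx' h1 hb h).elim
    · exact h1
    · exact (L0 b a x' x hx' hx h1 ha h.symm).elim
  choose xx hxx aa haa hga using fun g : ↥N => hcov g.1 g.2
  have L2 : ∀ (g : ↥N) (x : G) (b : ℕ), x ∈ P → (g : G) = x * y ^ b → aa g = b % e := by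
    intro g x b hx h
    have h1 : y ^ b = y ^ (b % e) := pow_eq_pow_mod b hye
    rw [h1, hga g] at h
    exact L1 _ _ _ _ (hxx g) hx (haa g) (Nat.mod_lt _ (Nat.pos_of_ne_zero he0)) h
  have hωmod : ∀ b : ℕ, ω ^ (b % e) = ω ^ b := fun b => (pow_eq_pow_mod b hωe).symm
  have ha1 : aa (1 : ↥N) = 0 := by
    have h := L2 1 1 0 P.one_mem (by simp)
    simpa using h
  -- the basic linear character
  obtain ⟨f₁, hf₁⟩ : ∃ f₁ : ↥N →* ℂˣ, ∀ g, ((f₁ g : ℂˣ) : ℂ) = ω ^ aa g := by
    refine ⟨{ toFun := fun g => Units.mk0 (ω ^ aa g) (pow_ne_zero _ hω0)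
              map_one' := ?_
              map_mul' := ?_ }, fun g => rfl⟩
    · apply Units.ext
      simp [ha1]
    · intro g g'
      have h : aa (g * g') = (aa g + aa g') % e := by
        apply L2 (g * g') (xx g * (y ^ aa g * xx g' * (y ^ aa g)⁻¹)) (aa g + aa g')
          (P.mul_mem (hxx g) (hnorm _ _ (hxx g')))
        rw [Subgroup.coe_mul, hga g, hga g', pow_add]
        group
      apply Units.ext
      simp only [Units.val_mk0, Units.val_mul]
      rw [h, hωmod, pow_add]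
  have hirr : ∀ i : ℕ, IsIrrCharacter ↥N (fun g : ↥N => (ω ^ aa g) ^ i) := by
    intro i
    have h := LinChar.isIrrCharacter_of_hom (f₁ ^ i)
    have e1 : (fun g : ↥N => (((f₁ ^ i) g : ℂˣ) : ℂ)) = fun g : ↥N => (ω ^ aa g) ^ i := by
      funext g
      rw [MonoidHom.pow_apply, Units.val_pow_eq_pow_val, hf₁]
    rwa [e1] at h
  choose mult hmult using fun (χ : IrrCharacter G) (i : ℕ) =>
    Clifford.classInner_char_nat (Ops.isCharacter_restrict N (isCharacter_of_irr χ.2))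
      (isCharacter_of_irr (hirr i))
  have hcardN : (Nat.card ↥N : ℂ) = (p : ℂ) * (e : ℂ) := by rw [hNc]; push_cast; ring
  have hpC : (p : ℂ) ≠ 0 := Nat.cast_ne_zero.2 hp
  have heC : (e : ℂ) ≠ 0 := Nat.cast_ne_zero.2 he0
  have hmult' : ∀ (χ : IrrCharacter G) (i : ℕ), (mult χ i : ℂ) =
      (Nat.card ↥N : ℂ)⁻¹ * ∑ g : ↥N, (χ : G → ℂ) g * (c ^ aa g) ^ i := by
    intro χ i
    rw [← hmult χ i]
    unfold classInner
    congr 1
    apply Finset.sum_congr rfl
    intro g _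
    rw [map_pow, map_pow, hc]
  -- the Fourier inversion on `N / P`
  have hfour : ∀ (χ : IrrCharacter G) (j : ℕ), j < e →
      ∑ i ∈ Finset.range e, (mult χ i : ℂ) * ω ^ (i * j) =
        (Nat.card ↥N : ℂ)⁻¹ * ((e : ℂ) * ∑ x : ↥P, (χ : G → ℂ) ((x : G) * y ^ j)) := by
    intro χ j hj
    have h1 : ∀ i ∈ Finset.range e, (mult χ i : ℂ) * ω ^ (i * j) =
        (Nat.card ↥N : ℂ)⁻¹ * ∑ g : ↥N, (χ : G → ℂ) g * (c ^ aa g * ω ^ j) ^ i := by
      intro i _
      rw [hmult', mul_assoc, Finset.sum_mul]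
      congr 1
      apply Finset.sum_congr rfl
      intro g _
      rw [mul_pow, pow_mul' ω i j]
      ring
    rw [Finset.sum_congr rfl h1, ← Finset.mul_sum, Finset.sum_comm]
    congr 1
    have h2 : ∀ g : ↥N, ∑ i ∈ Finset.range e, (χ : G → ℂ) g * (c ^ aa g * ω ^ j) ^ i =
        if aa g = j then (e : ℂ) * (χ : G → ℂ) g else 0 := by
      intro g
      have hz : (c ^ aa g * ω ^ j) ^ e = 1 := by
        rw [mul_pow, ← pow_mul, ← pow_mul, mul_comm (aa g) e, mul_comm j e, pow_mul, pow_mul,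
          hce, hωe, one_pow, one_pow, one_mul]
      rw [← Finset.mul_sum, geom_sum_root hz]
      by_cases h : aa g = j
      · rw [if_pos h, if_pos, mul_comm]
        rw [h, ← mul_pow, hcω, one_pow]
      · rw [if_neg h, if_neg, mul_zero]
        intro h3
        apply h
        apply hω.pow_inj (haa g) hj
        have h4 : ω ^ aa g * (c ^ aa g * ω ^ j) = ω ^ j := by
          rw [← mul_assoc, ← mul_pow, mul_comm ω c, hcω, one_pow, one_mul]
        rw [h3, mul_one] at h4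
        exact h4
    have h3 : ∑ x : ↥P, (χ : G → ℂ) ((x : G) * y ^ j) =
        ∑ g ∈ Finset.univ.filter (fun g : ↥N => aa g = j), (χ : G → ℂ) g := by
      apply Finset.sum_bij (fun (x : ↥P) _ =>
        (⟨(x : G) * y ^ j, N.mul_mem (hPN x.2) (N.pow_mem hyN j)⟩ : ↥N))
      · intro x _
        rw [Finset.mem_filter]
        refine ⟨Finset.mem_univ _, ?_⟩
        have h := L2 ⟨(x : G) * y ^ j, N.mul_mem (hPN x.2) (N.pow_mem hyN j)⟩ x j x.2 rfl
        rw [h, Nat.mod_eq_of_lt hj]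
      · intro x _ x' _ h
        have h' := congrArg Subtype.val h
        exact Subtype.ext (mul_right_cancel h')
      · intro g hg
        rw [Finset.mem_filter] at hg
        refine ⟨⟨xx g, hxx g⟩, Finset.mem_univ _, ?_⟩
        apply Subtype.ext
        show xx g * y ^ j = (g : G)
        rw [hga g, hg.2]
      · intro x _
        rfl
    rw [Finset.sum_congr rfl (fun g _ => h2 g), h3, Finset.mul_sum, Finset.sum_filter]
  refine ⟨ω, mult, hω, ?_, ?_, ?_, ?_⟩
  · -- r1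
    intro i _
    haveI := finite_irrCharacter G
    haveI := Fintype.ofFinite (IrrCharacter G)
    rw [finsum_eq_sum_of_fintype]
    have h1 : ∀ χ : IrrCharacter G, (mult χ i : ℂ) * (χ : G → ℂ) 1 =
        (Nat.card ↥N : ℂ)⁻¹ *
          ∑ g : ↥N, (c ^ aa g) ^ i * ((χ : G → ℂ) 1 * (χ : G → ℂ) g) := by
      intro χ
      rw [hmult', mul_assoc, Finset.sum_mul]
      congr 1
      apply Finset.sum_congr rfl
      intro g _
      ring
    rw [Finset.sum_congr rfl (fun χ _ => h1 χ), ← Finset.mul_sum, Finset.sum_comm]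
    have h2 : ∀ g : ↥N,
        ∑ χ : IrrCharacter G, (c ^ aa g) ^ i * ((χ : G → ℂ) 1 * (χ : G → ℂ) g) =
          if g = 1 then (Nat.card G : ℂ) else 0 := by
      intro g
      rw [← Finset.mul_sum]
      by_cases hg : g = 1
      · rw [if_pos hg, hg, ha1, pow_zero, one_pow, one_mul, ← Orth.sum_apply_one_sq_sum]
        apply Finset.sum_congr rfl
        intro χ _
        rw [Subgroup.coe_one, sq]
      · rw [if_neg hg, Orth.sum_apply_one_mul_of_ne_sum (g : G)
          (fun h => hg (Subtype.ext h)), mul_zero]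
    rw [Finset.sum_congr rfl (fun g _ => h2 g), Finset.sum_ite_eq' Finset.univ (1 : ↥N),
      if_pos (Finset.mem_univ _)]
    have h3 : (Nat.card G : ℂ) = (Nat.card ↥N : ℂ) * (N.index : ℂ) := by
      rw [← N.card_mul_index]; push_cast; ring
    rw [h3, hcardN]
    field_simp
  · -- r2
    intro χ
    have h := hfour χ 0 (Nat.pos_of_ne_zero he0)
    have e1 : ∑ i ∈ Finset.range e, (mult χ i : ℂ) * ω ^ (i * 0) =
        ∑ i ∈ Finset.range e, (mult χ i : ℂ) := by
      apply Finset.sum_congr rfl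
      intro i _
      rw [mul_zero, pow_zero, mul_one]
    rw [e1] at h
    rw [h, hcardN]
    have e2 : ∑ᶠ x ∈ (P : Set G), (χ : G → ℂ) x = ∑ x : ↥P, (χ : G → ℂ) ((x : G) * y ^ 0) := by
      rw [finsum_mem_sub]
      apply Finset.sum_congr rfl
      intro x _
      rw [pow_zero, mul_one]
    rw [e2]
    field_simp
  · -- r3
    intro χ j hj0 hj
    rw [hfour χ j hj, hcardN]
    have hcf := char_isClassFunction (isCharacter_of_irr χ.2)
    have e1 : ∑ x : ↥P, (χ : G → ℂ) ((x : G) * y ^ j) = (p : ℂ) * (χ : G → ℂ) (y ^ j) := by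
      have e2 : ∀ x ∈ (Finset.univ : Finset ↥P), (χ : G → ℂ) ((x : G) * y ^ j) =
          (χ : G → ℂ) (y ^ j) := by
        intro x _
        obtain ⟨d, hd⟩ := isConj_iff.1 (hconj x x.2 j hj0 hj)
        have h5 := hcf ((x : G) * y ^ j) d
        rw [hd] at h5
        exact h5.symm
      rw [Finset.sum_congr rfl e2, Finset.sum_const, Finset.card_univ, nsmul_eq_mul,
        ← Nat.card_eq_fintype_card, hPc]
    rw [e1]
    field_simp
  · -- r4
    intro χ χ' hχ i hi
    have h1 : (mult χ' ((e - i) % e) : ℂ) = conj (mult χ i : ℂ) := by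
      rw [hmult', hmult', map_mul, map_inv₀, Complex.conj_natCast, map_sum]
      congr 1
      apply Finset.sum_congr rfl
      intro g _
      rw [map_mul, hχ, map_pow, map_pow, hcc]
      congr 1
      have h2 : (c ^ aa g) ^ ((e - i) % e) = (c ^ aa g) ^ (e - i) :=
        (pow_eq_pow_mod (e - i) (by rw [← pow_mul, mul_comm, pow_mul, hce, one_pow])).symm
      rw [h2]
      have h3 : (c ^ aa g) ^ (e - i) * (c ^ aa g) ^ i = 1 := by
        rw [← pow_add, Nat.sub_add_cancel hi.le, ← pow_mul, mul_comm, pow_mul, hce, one_pow]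
      have h4 : (ω ^ aa g) ^ i * (c ^ aa g) ^ i = 1 := by
        rw [← mul_pow, ← mul_pow, mul_comm ω c, hcω, one_pow, one_pow]
      have h5 : (c ^ aa g) ^ i ≠ 0 := fun h0 => by
        rw [h0, mul_zero] at h3; exact zero_ne_one h3
      exact mul_right_cancel₀ h5 (h3.trans h4.symm)
    rw [Complex.conj_natCast] at h1
    exact_mod_cast h1

/-- **[PH2]** restriction of the irreducible characters to `N_G(P)`. -/
theorem main : Cfsg.Agent.Lib.Helper16.BRStmt.ExistsRes.{u} := by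
  intro G _ _ p _ P hP hC e hN y hyN hyo hyP hcov hreg hconj
  have hp : p ≠ 0 := (Fact.out : p.Prime).ne_zero
  obtain ⟨ω, mult, hω, r1, r2, r3, r4⟩ :=
    core (Subgroup.normalizer ((P : Subgroup G) : Set G)) (P : Subgroup G)
      Subgroup.le_normalizer p e hp hP hN y hyN hyo hyP hcov
      (fun a x hx => (Subgroup.mem_normalizer_iff.1 (Subgroup.pow_mem _ hyN a) x).1 hx) hconj
  exact ⟨ω, mult, ⟨hyN, hyo, hyP, hcov, hreg, hconj, hω, r1, r2, r3, r4⟩⟩

end Cfsg.Agent.Lib.Helper46.BRPH2
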