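import Mathlib
import Cfsg.Agent.Lib.Helper40.GFStmt

/-!
# S5886 piece SPAN (second seat, helper46)

The norm-one elements of a finite field extension of prime degree span it over the base field.
-/

set_option autoImplicit false

namespace Cfsg.Agent.Lib.Helper46.GFSPAN

open Cfsg.Agent.Lib.Helper40.GFStmt

universe u

theorem main : SpanNorm.{u} := by
  intro F L _ _ _ _ hr
  classical
  have : Finite F := Finite.of_injective (algebraMap F L) (algebraMap F L).injective
  let _ : Fintype F := Fintype.ofFinite F
  have : Module.Finite F L := Module.Finite.of_finite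
  let N : Submonoid L := MonoidHom.mker (Algebra.norm F : L →* F)
  have hset : {d : L | Algebra.norm F d = 1} = (N : Set L) := by
    ext d
    exact MonoidHom.mem_mker.symm
  have hspan : Submodule.span F {d : L | Algebra.norm F d = 1} =
      Subalgebra.toSubmodule (Algebra.adjoin F (N : Set L)) := by
    rw [Algebra.adjoin_eq_span, Submonoid.closure_eq, hset]
  rw [hspan]
  have := Subalgebra.isSimpleOrder_of_finrank_prime F L hr
  rcases eq_bot_or_eq_top (Algebra.adjoin F (N : Set L)) with hbot | htop
  · exfalso
    -- every norm-one element is in F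
    have hin : ∀ d : L, Algebra.norm F d = 1 → ∃ c : F, algebraMap F L c = d := by
      intro d hd
      have h1 : d ∈ Algebra.adjoin F (N : Set L) :=
        Algebra.subset_adjoin (MonoidHom.mem_mker.mpr hd)
      rw [hbot, Algebra.mem_bot] at h1
      exact h1
    set q := Fintype.card F with hq
    have hq2 : 2 ≤ q := Fintype.one_lt_card
    -- every unit has order dividing (q-1)^2
    have hpow : ∀ a : Lˣ, a ^ ((q - 1) * (q - 1)) = 1 := by
      intro a
      have ha0 : (a : L) ≠ 0 := a.ne_zero
      have hn0 : Algebra.norm F (a : L) ≠ 0 := Algebra.norm_ne_zero_iff.mpr ha0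
      have hn1 : Algebra.norm F ((a : L) ^ (q - 1)) = 1 := by
        rw [map_pow]
        exact FiniteField.pow_card_sub_one_eq_one _ hn0
      obtain ⟨c, hc⟩ := hin _ hn1
      have hc0 : c ≠ 0 := by
        intro h
        rw [h, map_zero] at hc
        exact pow_ne_zero _ ha0 hc.symm
      have hc1 : c ^ (q - 1) = 1 := FiniteField.pow_card_sub_one_eq_one c hc0
      apply Units.ext
      rw [Units.val_pow_eq_pow_val, Units.val_one, pow_mul, ← hc, ← map_pow, hc1, map_one]
    obtain ⟨g, hg⟩ := IsCyclic.exists_generator (α := Lˣ)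
    have hord : orderOf g = Nat.card Lˣ := orderOf_eq_card_of_forall_mem_zpowers hg
    have hdvd : orderOf g ∣ (q - 1) * (q - 1) := orderOf_dvd_of_pow_eq_one (hpow g)
    have hcard : Nat.card L = q ^ Module.finrank F L := by
      rw [Module.natCard_eq_pow_finrank (K := F) (V := L), Nat.card_eq_fintype_card]
    rw [hord, Nat.card_units, hcard] at hdvd
    have hr2 : 2 ≤ Module.finrank F L := hr.two_le
    have hle : q ^ 2 ≤ q ^ Module.finrank F L := Nat.pow_le_pow_right (by omega) hr2
    have hpos : 0 < (q - 1) * (q - 1) := Nat.mul_pos (by omega) (by omega)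
    have hle2 := Nat.le_of_dvd hpos hdvd
    have h3 : (q - 1) * (q - 1) + 2 ≤ q ^ 2 := by
      obtain ⟨s, hs⟩ : ∃ s, q = s + 2 := ⟨q - 2, by omega⟩
      rw [hs]
      have h4 : s + 2 - 1 = s + 1 := by omega
      rw [h4]
      nlinarith [Nat.zero_le s]
    have hle2' : q ^ Module.finrank F L ≤ (q - 1) * (q - 1) + 1 := by
      have := Nat.sub_le_iff_le_add.mp hle2
      exact this
    have h5 := le_trans h3 (le_trans hle hle2')
    generalize (q - 1) * (q - 1) = B at h5
    omega
  · rw [htop, Algebra.top_toSubmodule]

end Cfsg.Agent.Lib.Helper46.GFSPAN
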