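import Mathlib
import Cfsg.Agent.Lib.Helper23.HNStmt

/-!
# S1438 / FUSH (helper46, third seat): fusion in a Hall subgroup `H` of `S`, where `F ≤ S ≤ D`,
`F` a nilpotent normal subgroup and `D / F` nilpotent, is controlled by `N(H)`.
-/

set_option autoImplicit false

namespace Cfsg.Agent.Lib.Helper46.HNFUSH

open Cfsg.Agent.Lib.Helper23.HNStmt

universe u

theorem norm_of_map_eq {X : Type u} [Group X] (H : Subgroup X) (g t : X)
    (h : H.map (MulAut.conj g).toMonoidHom = H.map (MulAut.conj t).toMonoidHom) :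
    t⁻¹ * g ∈ Subgroup.normalizer (H : Set X) := by
  rw [Subgroup.mem_normalizer_iff]
  intro a
  constructor
  · intro ha
    have h1 : g * a * g⁻¹ ∈ H.map (MulAut.conj t).toMonoidHom := by
      rw [← h]
      exact ⟨a, ha, rfl⟩
    obtain ⟨b, hb, hb'⟩ := h1
    have hb'' : t * b * t⁻¹ = g * a * g⁻¹ := hb'
    have e : t⁻¹ * g * a * (t⁻¹ * g)⁻¹ = b := by
      calc t⁻¹ * g * a * (t⁻¹ * g)⁻¹ = t⁻¹ * (g * a * g⁻¹) * t := by group
        _ = t⁻¹ * (t * b * t⁻¹) * t := by rw [hb'']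
        _ = b := by group
    rw [e]
    exact hb
  · intro ha
    have h1 : t * (t⁻¹ * g * a * (t⁻¹ * g)⁻¹) * t⁻¹ ∈ H.map (MulAut.conj g).toMonoidHom := by
      rw [h]
      exact ⟨_, ha, rfl⟩
    obtain ⟨b, hb, hb'⟩ := h1
    have hb'' : g * b * g⁻¹ = t * (t⁻¹ * g * a * (t⁻¹ * g)⁻¹) * t⁻¹ := hb'
    have e : a = b := by
      have e2 : g * b * g⁻¹ = g * a * g⁻¹ := by
        rw [hb'']
        group
      exact (mul_left_cancel (mul_right_cancel e2)).symm
    rw [e]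
    exact hb

theorem hall_inf {X : Type u} [Group X] [Finite X] (S F H : Subgroup X) [F.Normal]
    (hFS : F ≤ S) (hHS : H ≤ S) (hHcop : (Nat.card ↥H).Coprime (H.relIndex S)) :
    (Nat.card ↥(H ⊓ F)).Coprime ((H ⊓ F).relIndex F) := by
  have e1 : H.relIndex F * F.relIndex (H ⊔ F) = (H ⊓ F).relIndex (H ⊔ F) := by
    have h := Subgroup.relIndex_inf_mul_relIndex H F (H ⊔ F)
    rwa [inf_of_le_left (le_sup_right : F ≤ H ⊔ F)] at h
  have e2 : (H ⊓ F).relIndex H * H.relIndex (H ⊔ F) = (H ⊓ F).relIndex (H ⊔ F) :=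
    Subgroup.relIndex_mul_relIndex _ _ _ inf_le_left le_sup_left
  have e3 : F.relIndex (H ⊔ F) = F.relIndex H := Subgroup.relIndex_sup_right H F
  have e4 : (H ⊓ F).relIndex H = F.relIndex H := Subgroup.inf_relIndex_left H F
  have hne : F.relIndex H ≠ 0 := Subgroup.index_ne_zero_of_finite
  have e5 : H.relIndex F = H.relIndex (H ⊔ F) := by
    rw [e3] at e1
    rw [e4] at e2
    have e6 : H.relIndex F * F.relIndex H = H.relIndex (H ⊔ F) * F.relIndex H := by
      rw [e1, ← e2, mul_comm]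
    exact Nat.eq_of_mul_eq_mul_right (Nat.pos_of_ne_zero hne) e6
  have e7 : H.relIndex (H ⊔ F) ∣ H.relIndex S :=
    Dvd.intro _ (Subgroup.relIndex_mul_relIndex H (H ⊔ F) S le_sup_left (sup_le hHS hFS))
  rw [Subgroup.inf_relIndex_right, e5]
  exact Nat.Coprime.coprime_dvd_left (Subgroup.card_dvd_of_le inf_le_left)
    (Nat.Coprime.coprime_dvd_right e7 hHcop)

theorem step4 (hU : HallNilUniq.{u}) {X : Type u} [Group X] [Finite X] (F H : Subgroup X)
    [hFn : F.Normal] (hFnil : Group.IsNilpotent ↥F)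
    (hAcop : (Nat.card ↥(H ⊓ F)).Coprime ((H ⊓ F).relIndex F))
    (f : X) (hf : f ∈ F) (x : X) (hx : x ∈ H) (hy : f * x * f⁻¹ ∈ H) :
    ∃ a ∈ H, a * x * a⁻¹ = f * x * f⁻¹ := by
  have hcard : ∀ (K : Subgroup X) (g : X),
      Nat.card ↥(K.map (MulAut.conj g).toMonoidHom) = Nat.card ↥K := fun K g =>
    Subgroup.card_map_of_injective (MulAut.conj g).injective
  have hconjF : ∀ (K : Subgroup X) (g : X), K ≤ F → K.map (MulAut.conj g).toMonoidHom ≤ F := by
    intro K g hK y hy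
    obtain ⟨k, hk, rfl⟩ := hy
    exact hFn.conj_mem k (hK hk) g
  have hAinv : ∀ g : X, (H ⊓ F).map (MulAut.conj g).toMonoidHom = H ⊓ F := fun g =>
    (hU F (H ⊓ F) ((H ⊓ F).map (MulAut.conj g).toMonoidHom) hFnil inf_le_right
      (hconjF _ g inf_le_right) (hcard _ g).symm hAcop).symm
  haveI hAn : ((H ⊓ F).subgroupOf F).Normal := by
    refine ⟨fun n hn g => ?_⟩
    rw [Subgroup.mem_subgroupOf] at hn ⊢
    have h2 : (g : X) * (n : X) * (g : X)⁻¹ ∈ (H ⊓ F).map (MulAut.conj (g : X)).toMonoidHom :=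
      ⟨n, hn, rfl⟩
    rw [hAinv] at h2
    exact h2
  have hcA : Nat.card ↥((H ⊓ F).subgroupOf F) = Nat.card ↥(H ⊓ F) :=
    Nat.card_congr (Subgroup.subgroupOfEquivOfLe (inf_le_right : H ⊓ F ≤ F)).toEquiv
  have hcop' : Nat.Coprime (Nat.card ↥((H ⊓ F).subgroupOf F)) ((H ⊓ F).subgroupOf F).index := by
    rw [hcA]
    exact hAcop
  obtain ⟨R', hR'⟩ := Subgroup.exists_right_complement'_of_coprime hcop'
  have hRF : R'.map F.subtype ≤ F := by
    rintro _ ⟨z, -, rfl⟩
    exact z.2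
  have hRcop : (Nat.card ↥(R'.map F.subtype)).Coprime ((R'.map F.subtype).relIndex F) := by
    have c1 : Nat.card ↥(R'.map F.subtype) = Nat.card ↥R' :=
      Subgroup.card_map_of_injective F.subtype_injective
    have c2 : (R'.map F.subtype).relIndex F = R'.index := by
      unfold Subgroup.relIndex Subgroup.subgroupOf
      rw [Subgroup.comap_map_eq_self_of_injective F.subtype_injective]
    rw [c1, c2, hR'.index_eq_card, ← hR'.symm.index_eq_card]
    exact hcop'.symm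
  have hRinv : (R'.map F.subtype).map (MulAut.conj x).toMonoidHom = R'.map F.subtype :=
    (hU F (R'.map F.subtype) ((R'.map F.subtype).map (MulAut.conj x).toMonoidHom) hFnil hRF
      (hconjF _ x hRF) (hcard _ x).symm hRcop).symm
  obtain ⟨p, hp⟩ := (Subgroup.isComplement'_def.mp hR').2 ⟨f, hf⟩
  have hp' : ((p.1 : ↥F) : X) * ((p.2 : ↥F) : X) = f := congrArg Subtype.val hp
  have haA : ((p.1 : ↥F) : X) ∈ H ⊓ F := Subgroup.mem_subgroupOf.mp p.1.2
  have hrR : ((p.2 : ↥F) : X) ∈ R'.map F.subtype := ⟨p.2, p.2.2, rfl⟩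
  obtain ⟨a, ha⟩ : ∃ a : X, a = ((p.1 : ↥F) : X) := ⟨_, rfl⟩
  obtain ⟨r, hr⟩ : ∃ r : X, r = ((p.2 : ↥F) : X) := ⟨_, rfl⟩
  rw [← ha] at hp' haA
  rw [← hr] at hp' hrR
  have haH : a ∈ H := haA.1
  have hrF : r ∈ F := hRF hrR
  -- the commutator
  have hc1 : r * x * r⁻¹ ∈ H := by
    have e : r * x * r⁻¹ = a⁻¹ * (f * x * f⁻¹) * a := by
      rw [← hp']
      group
    rw [e]
    exact H.mul_mem (H.mul_mem (H.inv_mem haH) hy) haH
  have hcH : r * x * r⁻¹ * x⁻¹ ∈ H := H.mul_mem hc1 (H.inv_mem hx)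
  have hcF : r * x * r⁻¹ * x⁻¹ ∈ F := by
    have e : r * x * r⁻¹ * x⁻¹ = r * (x * r⁻¹ * x⁻¹) := by group
    rw [e]
    exact F.mul_mem hrF (hFn.conj_mem _ (F.inv_mem hrF) x)
  have hcR : r * x * r⁻¹ * x⁻¹ ∈ R'.map F.subtype := by
    have e : r * x * r⁻¹ * x⁻¹ = r * (x * r⁻¹ * x⁻¹) := by group
    rw [e]
    refine Subgroup.mul_mem _ hrR ?_
    have h3 : x * r⁻¹ * x⁻¹ ∈ (R'.map F.subtype).map (MulAut.conj x).toMonoidHom :=
      ⟨r⁻¹, Subgroup.inv_mem _ hrR, rfl⟩
    rw [hRinv] at h3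
    exact h3
  have hc1' : r * x * r⁻¹ * x⁻¹ = 1 := by
    obtain ⟨z, hz, hz'⟩ := hcR
    have hzA : z ∈ (H ⊓ F).subgroupOf F := by
      rw [Subgroup.mem_subgroupOf]
      have : (F.subtype z : X) = (z : X) := rfl
      rw [← this, hz']
      exact ⟨hcH, hcF⟩
    have hz1 : z = 1 := Subgroup.disjoint_def.mp hR'.disjoint hzA hz
    rw [← hz', hz1]
    rfl
  have hrx : r * x * r⁻¹ = x := by
    have := mul_inv_eq_one.mp hc1'
    exact this
  refine ⟨a, haH, ?_⟩
  rw [← hp']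
  calc a * x * a⁻¹ = a * (r * x * r⁻¹) * a⁻¹ := by rw [hrx]
    _ = a * r * x * (a * r)⁻¹ := by group

theorem main (hU : HallNilUniq.{u}) (hC : HallConj.{u}) : FusHall.{u} := by
  intro X _ _ hX S F D H hFn hS hFS hSD hFnil hFcop hDnil hHS hHcop x hx m hmx
  haveI := hX
  have hsolv : ∀ T : Subgroup X, Group.IsSolvable ↥T := fun T => inferInstance
  have hconjS : ∀ g : X, H.map (MulAut.conj g).toMonoidHom ≤ S := by
    intro g y hy
    obtain ⟨h, hh, rfl⟩ := hy
    exact hS.conj_mem h (hHS hh) g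
  have hcard : ∀ (K : Subgroup X) (g : X),
      Nat.card ↥(K.map (MulAut.conj g).toMonoidHom) = Nat.card ↥K := fun K g =>
    Subgroup.card_map_of_injective (MulAut.conj g).injective
  obtain ⟨s, hsS, hs⟩ := hC S H (H.map (MulAut.conj m).toMonoidHom) (hsolv S) hHS (hconjS m)
    (hcard H m).symm hHcop
  have hn0 := norm_of_map_eq H m s hs
  -- step 2
  have hBT : H.map (MulAut.conj s).toMonoidHom ≤ H ⊔ F := by
    have hker : (QuotientGroup.mk' F).ker = F := QuotientGroup.ker_mk' F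
    have hle : S.map (QuotientGroup.mk' F) ≤ D.map (QuotientGroup.mk' F) := Subgroup.map_mono hSD
    have hNnil : Group.IsNilpotent ↥(S.map (QuotientGroup.mk' F)) := by
      haveI := hDnil
      exact isNilpotent_of_ker_le_center (Subgroup.inclusion hle)
        (by
          rw [(MonoidHom.ker_eq_bot_iff _).mpr (Subgroup.inclusion_injective hle)]
          exact bot_le)
    have hB' : (H.map (MulAut.conj s).toMonoidHom).map (QuotientGroup.mk' F) =
        (H.map (QuotientGroup.mk' F)).map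
          (MulAut.conj ((QuotientGroup.mk' F) s)).toMonoidHom := by
      rw [Subgroup.map_map, Subgroup.map_map]
      congr 1
    have hcardB : Nat.card ↥(H.map (QuotientGroup.mk' F)) =
        Nat.card ↥((H.map (MulAut.conj s).toMonoidHom).map (QuotientGroup.mk' F)) := by
      rw [hB']
      exact (Subgroup.card_map_of_injective (MulAut.conj ((QuotientGroup.mk' F) s)).injective).symm
    have hcop2 : (Nat.card ↥(H.map (QuotientGroup.mk' F))).Coprime
        ((H.map (QuotientGroup.mk' F)).relIndex (S.map (QuotientGroup.mk' F))) := by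
      rw [Subgroup.relIndex_map_map, hker, sup_of_le_left hFS]
      exact Nat.Coprime.coprime_dvd_left (Subgroup.card_map_dvd H (QuotientGroup.mk' F))
        (Nat.Coprime.coprime_dvd_right
          (Subgroup.relIndex_dvd_of_le_left S (le_sup_left : H ≤ H ⊔ F)) hHcop)
    have heq := hU (S.map (QuotientGroup.mk' F)) (H.map (QuotientGroup.mk' F))
      ((H.map (MulAut.conj s).toMonoidHom).map (QuotientGroup.mk' F)) hNnil
      (Subgroup.map_mono hHS) (Subgroup.map_mono (hconjS s)) hcardB hcop2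
    calc H.map (MulAut.conj s).toMonoidHom
        ≤ ((H.map (MulAut.conj s).toMonoidHom).map (QuotientGroup.mk' F)).comap
            (QuotientGroup.mk' F) := Subgroup.le_comap_map _ _
      _ = (H.map (QuotientGroup.mk' F)).comap (QuotientGroup.mk' F) := by rw [← heq]
      _ = H ⊔ F := by rw [Subgroup.comap_map_eq, hker]
  -- step 3
  have hTS : H ⊔ F ≤ S := sup_le hHS hFS
  have hcopT : (Nat.card ↥H).Coprime (H.relIndex (H ⊔ F)) :=
    Nat.Coprime.coprime_dvd_right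
      (Dvd.intro _ (Subgroup.relIndex_mul_relIndex H (H ⊔ F) S le_sup_left hTS)) hHcop
  obtain ⟨t, htT, ht⟩ := hC (H ⊔ F) H (H.map (MulAut.conj s).toMonoidHom) (hsolv _) le_sup_left
    hBT (hcard H s).symm hcopT
  have hn1 := norm_of_map_eq H s t ht
  have htT' : t ∈ ((F ⊔ H : Subgroup X) : Set X) := by
    rw [sup_comm]
    exact htT
  rw [Subgroup.normal_mul] at htT'
  obtain ⟨f, hf, h, hh, rfl⟩ := Set.mem_mul.mp htT'
  obtain ⟨n1, hn1def⟩ : ∃ n1 : X, n1 = h * ((f * h)⁻¹ * s) * (s⁻¹ * m) := ⟨_, rfl⟩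
  have hn1N : n1 ∈ Subgroup.normalizer (H : Set X) := by
    rw [hn1def]
    exact Subgroup.mul_mem _ (Subgroup.mul_mem _ (Subgroup.le_normalizer hh) hn1) hn0
  have hx1 : n1 * x * n1⁻¹ ∈ H := (Subgroup.mem_normalizer_iff.mp hn1N x).mp hx
  have hfx : f * (n1 * x * n1⁻¹) * f⁻¹ = m * x * m⁻¹ := by
    rw [hn1def]
    group
  obtain ⟨a, haH, ha⟩ := step4 hU F H hFnil (hall_inf S F H hFS hHS hHcop) f hf
    (n1 * x * n1⁻¹) hx1 (by rw [hfx]; exact hmx)
  refine ⟨a * n1, Subgroup.mul_mem _ (Subgroup.le_normalizer haH) hn1N, ?_⟩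
  rw [← hfx, ← ha]
  group

end Cfsg.Agent.Lib.Helper46.HNFUSH
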