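import Mathlib
import Cfsg.Agent.Lib.Helper88.MCStmt

/-!
# S4245 piece SYLCYC (third seat, helper46)

`A ≤ G` of index `p ^ s` (`p` odd), `B ⊴ A` of odd order, `A ⧸ B` cyclic of order `2 ^ r`:
`G` has a cyclic Sylow `2`-subgroup of order `2 ^ r`.
-/

set_option autoImplicit false

namespace Cfsg.Agent.Lib.Helper46.MCSYLCYC

open Cfsg.Agent.Lib.Helper88.MCStmt

universe u

theorem main : SylCyc.{u} := by
  intro G _ _ A p s hp hp2 hidx B _ hcyc r hr hodd
  -- the order of `G`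
  have h1 : Nat.card ↥A * A.index = Nat.card G := Subgroup.card_mul_index A
  have h2 : Nat.card ↥A = Nat.card (↥A ⧸ B) * Nat.card ↥B :=
    Subgroup.card_eq_card_quotient_mul_card_subgroup B
  have hpodd : Odd p := hp.odd_of_ne_two hp2
  have hmodd : Odd (Nat.card ↥B * p ^ s) := hodd.mul hpodd.pow
  have hm0 : Nat.card ↥B * p ^ s ≠ 0 := by
    intro h0
    rw [h0] at hmodd
    exact absurd hmodd (by decide)
  have hm2 : ¬ 2 ∣ Nat.card ↥B * p ^ s := by
    intro h
    obtain ⟨k, hk⟩ := hmodd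
    omega
  have hG : Nat.card G = 2 ^ r * (Nat.card ↥B * p ^ s) := by
    rw [← h1, h2, hr, hidx, mul_assoc]
  have hfac : (Nat.card G).factorization 2 = r := by
    rw [hG, Nat.factorization_mul (pow_ne_zero r (by norm_num)) hm0, Finsupp.add_apply,
      Nat.factorization_eq_zero_of_not_dvd hm2, Nat.Prime.factorization_pow Nat.prime_two,
      Finsupp.single_eq_same, add_zero]
  -- an element of order `2 ^ r`
  obtain ⟨gbar, hgbar⟩ := IsCyclic.exists_generator (α := ↥A ⧸ B)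
  have hord : orderOf gbar = 2 ^ r := by
    rw [orderOf_eq_card_of_forall_mem_zpowers hgbar, hr]
  obtain ⟨g, rfl⟩ := QuotientGroup.mk_surjective gbar
  have hdvd : 2 ^ r ∣ orderOf g := by
    rw [← hord]
    exact orderOf_map_dvd (QuotientGroup.mk' B) g
  have hg0 : orderOf g ≠ 0 := (orderOf_pos g).ne'
  have hn0 : orderOf g / 2 ^ r ≠ 0 := by
    intro h0
    rw [Nat.div_eq_zero_iff] at h0
    rcases h0 with h0 | h0
    · exact absurd h0 (pow_ne_zero r (by norm_num))
    · exact absurd (Nat.le_of_dvd (orderOf_pos g) hdvd) (not_le.2 h0)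
  have ht : orderOf (g ^ (orderOf g / 2 ^ r)) = 2 ^ r := by
    rw [orderOf_pow_of_dvd hn0 (Nat.div_dvd_of_dvd hdvd), Nat.div_div_self hdvd hg0]
  have htG : orderOf ((g ^ (orderOf g / 2 ^ r) : ↥A) : G) = 2 ^ r := by
    rw [Subgroup.orderOf_coe, ht]
  have hcard : Nat.card ↥(Subgroup.zpowers ((g ^ (orderOf g / 2 ^ r) : ↥A) : G)) =
      2 ^ (Nat.card G).factorization 2 := by
    rw [Nat.card_zpowers, htG, hfac]
  refine ⟨Sylow.ofCard (Subgroup.zpowers ((g ^ (orderOf g / 2 ^ r) : ↥A) : G)) hcard, ?_, ?_⟩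
  · rw [Sylow.coe_ofCard]
    infer_instance
  · rw [Sylow.coe_ofCard, Nat.card_zpowers, htG]

end Cfsg.Agent.Lib.Helper46.MCSYLCYC
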