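import Mathlib
import Cfsg.Agent.Lib.Helper46.MOStmt
import Cfsg.Agent.Lib.Helper46.MOCore
import Cfsg.Agent.Lib.Helper46.MOTopMat
import Cfsg.Agent.Lib.Helper94.MOORBSETS
import Cfsg.Agent.Lib.Helper21.MOTIGHT
import Cfsg.Agent.Lib.Helper21.MOSUMEVEN
import Cfsg.Agent.Lib.Helper99.MOCLAIMR
import Cfsg.Agent.Lib.Helper99.MOVALCLASS
import Cfsg.Agent.Lib.Helper28.MOGEO2
import Cfsg.Agent.Lib.Helper28.MOGE3
import Cfsg.Agent.Lib.Helper28.MONUMCLOG
import Cfsg.Agent.Lib.Helper71.APRS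
import Cfsg.Agent.Lib.Helper21.APLR
import Cfsg.Agent.Lib.Helper8.APDP

set_option autoImplicit false

/-! The polynomial core and the matrix form of the element order bound for isometries,
without hypotheses. -/

namespace Cfsg.Agent.Lib.Helper46.MOFinal

universe u

theorem claimR : Cfsg.Agent.Lib.Helper46.MOStmt.ClaimR :=
  Cfsg.Agent.Lib.Helper99.MOCLAIMR.main Cfsg.Agent.Lib.Helper28.MOGEO2.main
    (Cfsg.Agent.Lib.Helper99.MOVALCLASS.main Cfsg.Agent.Lib.Helper28.MOGE3.main)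

theorem tightReal : Cfsg.Agent.Lib.Helper46.MOStmt.TightReal.{u} :=
  Cfsg.Agent.Lib.Helper21.MOTIGHT.main Cfsg.Agent.Lib.Helper94.MOORBSETS.main claimR

theorem core : Cfsg.Agent.Lib.Helper46.MOStmt.Core.{u} :=
  Cfsg.Agent.Lib.Helper46.MOCore.main Cfsg.Agent.Lib.Helper71.APRS.main
    Cfsg.Agent.Lib.Helper21.APLR.main Cfsg.Agent.Lib.Helper8.APDP.main tightReal
    Cfsg.Agent.Lib.Helper28.MONUMCLOG.main Cfsg.Agent.Lib.Helper21.MOSUMEVEN.main

theorem topMat : Cfsg.Agent.Lib.Helper45.EOStmt.TopMat.{u} :=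
  Cfsg.Agent.Lib.Helper46.MOTopMat.main core

end Cfsg.Agent.Lib.Helper46.MOFinal
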