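import Mathlib
import Cfsg.Agent.Lib.Helper22.S56Stmt
import Cfsg.Agent.Lib.Helper63.PFrattini

/-!
# S1356 / FRAT (helper46, spare seat): the Frattini subgroup of a normal `q`-subgroup `O`,
as a subgroup of `X`.
-/

set_option autoImplicit false

namespace Cfsg.Agent.Lib.Helper46.S56FRAT

open Cfsg.Agent.Lib.Helper22.S56Stmt

universe u

theorem main : Frat.{u} := by
  intro X _ _ O _ q _ hO
  refine ⟨(frattini ↥O).map O.subtype, ?_, ?_, ?_, ?_, ?_⟩
  · exact ConjAct.normal_of_characteristic_of_normal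
  · rintro _ ⟨u, -, rfl⟩
    exact u.2
  · intro a ha
    refine ⟨⟨a, ha⟩ ^ q,
      Cfsg.Agent.Lib.Helper63.PFrattini.pow_mem_frattini hO ⟨a, ha⟩, ?_⟩
    simp
  · intro a ha b hb
    refine ⟨⟨a, ha⟩ * ⟨b, hb⟩ * ⟨a, ha⟩⁻¹ * ⟨b, hb⟩⁻¹,
      Cfsg.Agent.Lib.Helper63.PFrattini.comm_mem_frattini hO ⟨a, ha⟩ ⟨b, hb⟩, ?_⟩
    simp
  · intro S hSO hOS
    have h1 : S.subgroupOf O ⊔ frattini ↥O = ⊤ := by
      rw [eq_top_iff]
      intro o _
      have ho : (o : X) ∈ S ⊔ (frattini ↥O).map O.subtype := hOS o.2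
      have ho' : (o : X) ∈ ((S ⊔ (frattini ↥O).map O.subtype : Subgroup X) : Set X) := ho
      rw [Subgroup.mul_normal] at ho'
      obtain ⟨s, hs, n, ⟨u, hu, rfl⟩, hsn⟩ := Set.mem_mul.mp ho'
      have hsO : s ∈ O := hSO hs
      have e : o = (⟨s, hsO⟩ : ↥O) * u := Subtype.ext hsn.symm
      rw [e]
      exact Subgroup.mul_mem_sup (Subgroup.mem_subgroupOf.mpr hs) hu
    have h2 : S.subgroupOf O = ⊤ := frattini_nongenerating h1
    exact Subgroup.subgroupOf_eq_top.mp h2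

end Cfsg.Agent.Lib.Helper46.S56FRAT
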