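import Mathlib
import Cfsg.Agent.Lib.Helper22.S56Stmt
import Cfsg.Agent.Lib.Helper31.CoprimeGen

/-!
# S1356 / LIFT (helper46, spare seat): a `q'`-group acting trivially on `O / N` (`N` of
non-generators of the `q`-group `O`) centralizes `O`.
-/

set_option autoImplicit false

namespace Cfsg.Agent.Lib.Helper46.S56LIFT

open Cfsg.Agent.Lib.Helper22.S56Stmt

universe u

theorem main : Lift.{u} := by
  intro X _ _ O N A _ hNn q _ hO hNO hgen hcop hA
  have key : ∀ k : ℕ, ∀ a ∈ A, orderOf a = k → a ∈ Subgroup.centralizer (O : Set X) := by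
    intro k
    induction k using Nat.strong_induction_on with
    | _ k ih =>
      intro a ha hk
      by_cases h1 : a = 1
      · subst h1
        exact Subgroup.one_mem _
      have hk1 : orderOf a ≠ 1 := by
        intro h
        exact h1 (orderOf_eq_one_iff.mp h)
      obtain ⟨r, hr, hrk⟩ := Nat.exists_prime_and_dvd hk1
      haveI : Fact r.Prime := ⟨hr⟩
      have hpos : 0 < orderOf a := orderOf_pos a
      have hlt : orderOf (a ^ r) < k := by
        rw [← hk, orderOf_pow' a hr.ne_zero, Nat.gcd_eq_right hrk]
        exact Nat.div_lt_self hpos hr.one_lt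
      have hcen : a ^ r ∈ Subgroup.centralizer (O : Set X) :=
        ih _ hlt (a ^ r) (A.pow_mem ha r) rfl
      have hrq : r ≠ q := by
        rintro rfl
        have h2 : r ∣ Nat.card ↥A := hrk.trans (Subgroup.orderOf_dvd_natCard A ha)
        exact hr.one_lt.ne' (Nat.Coprime.eq_one_of_dvd hcop.symm h2)
      have hφ : (MulAut.conjNormal a : MulAut ↥O) ^ r = 1 := by
        have e : (MulAut.conjNormal a : MulAut ↥O) ^ r = MulAut.conjNormal (a ^ r) :=
          (map_pow MulAut.conjNormal a r).symm
        rw [e]
        ext o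
        rw [MulAut.conjNormal_apply]
        have h3 := (Subgroup.mem_centralizer_iff.mp hcen) (o : X) o.2
        simp only [MulAut.one_apply]
        rw [← h3, mul_inv_cancel_right]
      have hN' : ¬ r ∣ Nat.card ↥(N.subgroupOf O) := by
        intro hdvd
        obtain ⟨n, hn⟩ := IsPGroup.iff_card.mp (hO.to_subgroup (N.subgroupOf O))
        rw [hn] at hdvd
        exact hrq ((Nat.prime_dvd_prime_iff_eq hr Fact.out).mp (hr.dvd_of_dvd_pow hdvd))
      have hφN : ∀ n ∈ N.subgroupOf O,
          (MulAut.conjNormal a : MulAut ↥O) n ∈ N.subgroupOf O := by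
        intro n hn
        rw [Subgroup.mem_subgroupOf] at hn ⊢
        rw [MulAut.conjNormal_apply]
        exact hNn.conj_mem _ hn a
      have hS : O ≤ (O ⊓ Subgroup.centralizer ({a} : Set X)) ⊔ N := by
        intro o ho
        have hx : (⟨o, ho⟩ : ↥O)⁻¹ * (MulAut.conjNormal a : MulAut ↥O) ⟨o, ho⟩ ∈
            N.subgroupOf O := by
          rw [Subgroup.mem_subgroupOf, Subgroup.coe_mul, Subgroup.coe_inv,
            MulAut.conjNormal_apply]
          have h3 := hNn.conj_mem _ (hA a ha o ho) o⁻¹
          convert h3 using 1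
          group
        obtain ⟨n, hn, hfix⟩ := Cfsg.Agent.Lib.Helper31.CoprimeGen.exists_fixed_in_coset
          (MulAut.conjNormal a : MulAut ↥O) hφ (N.subgroupOf O) hN' hφN ⟨o, ho⟩ hx
        have hfix' : a * (o * (n : X)) * a⁻¹ = o * (n : X) := by
          have h4 := congrArg Subtype.val hfix
          rw [MulAut.conjNormal_apply] at h4
          exact h4
        have e : o = (o * (n : X)) * (n : X)⁻¹ := by group
        rw [e]
        refine Subgroup.mul_mem_sup (Subgroup.mem_inf.mpr ⟨O.mul_mem ho n.2, ?_⟩)
          (N.inv_mem (Subgroup.mem_subgroupOf.mp hn))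
        rw [Subgroup.mem_centralizer_iff]
        intro h hh
        rw [Set.mem_singleton_iff] at hh
        subst hh
        exact mul_inv_eq_iff_eq_mul.mp hfix'
      have hOS := hgen _ inf_le_left hS
      rw [Subgroup.mem_centralizer_iff]
      intro h hh
      exact ((Subgroup.mem_centralizer_iff.mp (hOS hh).2) a (Set.mem_singleton a)).symm
  intro a ha
  exact key _ a ha rfl

end Cfsg.Agent.Lib.Helper46.S56LIFT
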