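import Mathlib
import Cfsg.Agent.Lib.Helper62.S57Stmt
import Cfsg.Agent.Lib.Helper62.S55Stmt
import Cfsg.Agent.Lib.Helper76.PSolv

/-!
# S1357 / KPRIMEABS (helper46, spare assembly for helper62's call): `|R|` is prime in the setting
`SetA` / `SetB` when `H` is not nilpotent, from `SylNormal`, `SylNilp` and the pure pieces
`HallD`, `Frat`, `Lift`, `QuotP`, `NilProd2`.  (Port of `Helper93.S56DERNIL`.)
-/

set_option autoImplicit false

namespace Cfsg.Agent.Lib.Helper46.S57KPRIMEABS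

open Cfsg Cfsg.Agent.Lib.Helper93.S64Stmt Cfsg.Agent.Lib.Helper22.S56Stmt
  Cfsg.Agent.Lib.Helper62.S57Stmt

universe u

theorem main (hSN : SylNormal.{u}) (hSNilp : Cfsg.Agent.Lib.Helper62.S55Stmt.SylNilp.{u})
    (hHD : HallD.{u}) (hFr : Frat.{u}) (hL : Lift.{u}) (hQP : QuotP.{u}) (hNP2 : NilProd2.{u}) :
    KPrimeAbs.{u} := by
  intro X _ _ H R _ q hA hB hnil
  obtain ⟨hidx, hC⟩ := hSN H R q hA hB
  obtain ⟨D, hDH, hDO, hHOD, hRD, hDq⟩ := hHD H R q hA hB hidx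
  have hqp : q.Prime := hB.qprime
  have hfact : Fact q.Prime := ⟨hqp⟩
  have hOp : IsPGroup q ↥(Oq X H q) :=
    (Cfsg.Agent.Lib.Helper76.PSolv.pCore_isPGroup q).to_le inf_le_left
  obtain ⟨N, hNn, hNO, hpow, hcomm, hnongen⟩ := hFr (Oq X H q) q hOp
  by_cases hex : ∃ d ∈ D, ∃ o ∈ Oq X H q, d * o * d⁻¹ * o⁻¹ ∉ N
  · exact hQP H R D N q hA hB hidx hC hDH hDO hRD hNO hpow hcomm hex
  · exfalso
    have hall : ∀ d ∈ D, ∀ o ∈ Oq X H q, d * o * d⁻¹ * o⁻¹ ∈ N := by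
      intro d hd o ho
      by_contra hno
      exact hex ⟨d, hd, o, ho, hno⟩
    have hcent := hL (Oq X H q) N D q hOp hNO hnongen hDq hall
    exact hnil (hNP2 H (Oq X H q) D q hOp (Oq_le X H q) hDH hDO hHOD (hSNilp H R q hA hB) hcent)

end Cfsg.Agent.Lib.Helper46.S57KPRIMEABS
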