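import Mathlib
import Cfsg.Agent.Lib.Helper46.SU3Coord

set_option autoImplicit false
set_option linter.unusedSectionVars false
set_option linter.unusedVariables false

/-!
# Automorphisms of a group with unitary Heisenberg coordinates

For `C : Coord G φ` over a field `F` of order `q²` (`q` a power of two, `φ x = x ^ q`), every
automorphism `τ` of `G` acts on the first coordinate by `a ↦ l * ρ a` with `ρ` a field
endomorphism of `F` (`aut_structure`).  Field endomorphisms are powers of the Frobenius.
-/

namespace Cfsg.Agent.Lib.Helper46.SU3Aut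

open Cfsg.Agent.Lib.Helper46.SU3Coord
open scoped commutatorElement

section Galois

variable {F : Type*} [Field F] [Fintype F] {q n : ℕ}

/-- every ring endomorphism of a finite field of characteristic two is a power of the Frobenius,
and `x ↦ x ^ 2 ^ m` is the identity only when `2 n ∣ m` (`|F| = 2 ^ (2 n)`) -/
theorem frob_facts (hq : q = 2 ^ n) (hF : Fintype.card F = q ^ 2) :
    (∀ ρ : F →+* F, ∃ j : ℕ, ∀ x, ρ x = x ^ (2 ^ j)) ∧
      ∀ m : ℕ, (∀ x : F, x ^ (2 ^ m) = x) → 2 * n ∣ m := by
  have h2 : (2 : F) = 0 := two_eq_zero_of_card hq hF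
  haveI : CharP F 2 := CharTwo.of_one_ne_zero_of_two_eq_zero one_ne_zero h2
  letI : Algebra (ZMod 2) F := ZMod.algebra F 2
  have hcard2 : Fintype.card (ZMod 2) = 2 := ZMod.card 2
  have hfr : Module.finrank (ZMod 2) F = 2 * n := by
    have h := Module.card_eq_pow_finrank (K := ZMod 2) (V := F)
    rw [hF, hq, hcard2, ← pow_mul] at h
    have := Nat.pow_right_injective (le_refl 2) h
    omega
  constructor
  · intro ρ
    let ρ' : F →ₐ[ZMod 2] F :=
      { ρ with
        commutes' := fun r => RingHom.congr_fun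
          (Subsingleton.elim (ρ.comp (algebraMap (ZMod 2) F)) (algebraMap (ZMod 2) F)) r }
    obtain ⟨⟨j, hj⟩, hjρ⟩ := (FiniteField.bijective_frobeniusAlgHom_pow (ZMod 2) F).2 ρ'
    refine ⟨j, fun x => ?_⟩
    have h1 : ρ x = ρ' x := rfl
    rw [h1, ← hjρ]
    simp only [AlgHom.coe_pow, FiniteField.coe_frobeniusAlgHom, pow_iterate, hcard2]
  · intro m hm
    have h1 : FiniteField.frobeniusAlgHom (ZMod 2) F ^ m = 1 := by
      apply AlgHom.ext
      intro x
      simp only [AlgHom.coe_pow, FiniteField.coe_frobeniusAlgHom, pow_iterate, hcard2,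
        AlgHom.one_apply]
      exact hm x
    have h3 := orderOf_dvd_of_pow_eq_one h1
    rwa [FiniteField.orderOf_frobeniusAlgHom, hfr] at h3

end Galois

section Aut

variable {G : Type*} [Group G] {F : Type*} [Field F] [Fintype F] {φ : F →+* F} (C : Coord G φ)
  (h2 : (2 : F) = 0) (hinv : ∀ x, φ (φ x) = x)
  (htr : ∀ c, φ c = c → ∃ b, b + φ b = c) (hl : ∃ l, φ l ≠ l)

include h2 hinv htr hl in
theorem center_map (τ : G ≃* G) (z : G) (hz : C.α z = 0) : C.α (τ z) = 0 := by
  have hzc := (mem_center_iff C hinv htr hl z).mpr hz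
  apply (mem_center_iff C hinv htr hl _).mp
  rw [Subgroup.mem_center_iff] at hzc ⊢
  intro g
  have h' := congrArg τ (hzc (τ.symm g))
  rwa [map_mul, map_mul, MulEquiv.apply_symm_apply] at h'

include h2 hinv htr hl in
theorem α_congr (τ : G ≃* G) (x y : G) (h : C.α x = C.α y) : C.α (τ x) = C.α (τ y) := by
  have h0 : C.α (x⁻¹ * y) = 0 := by
    rw [C.mul_α, α_inv C h2, h]
    linear_combination C.α y * h2
  have h1 := center_map C h2 hinv htr hl τ _ h0
  rw [map_mul, map_inv, C.mul_α, α_inv C h2] at h1
  linear_combination h1 - C.α (τ y) * h2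

/-- an element with prescribed first coordinate -/
noncomputable def xa (a : F) : G := Classical.choose (exists_α C htr a hinv)

theorem xa_spec (a : F) : C.α (xa C hinv htr a) = a :=
  Classical.choose_spec (exists_α C htr a hinv)

/-- the action of an automorphism on the first coordinate -/
noncomputable def Am (τ : G ≃* G) (a : F) : F := C.α (τ (xa C hinv htr a))

include h2 hl in
theorem α_map (τ : G ≃* G) (x : G) : C.α (τ x) = Am C hinv htr τ (C.α x) :=
  α_congr C h2 hinv htr hl τ x _ (xa_spec C hinv htr _).symm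

include h2 hl in
theorem Am_add (τ : G ≃* G) (a a' : F) :
    Am C hinv htr τ (a + a') = Am C hinv htr τ a + Am C hinv htr τ a' := by
  have h := α_map C h2 hinv htr hl τ (xa C hinv htr a * xa C hinv htr a')
  rw [map_mul, C.mul_α, C.mul_α, xa_spec, xa_spec] at h
  exact h.symm

include h2 hl in
theorem Am_zero (τ : G ≃* G) : Am C hinv htr τ 0 = 0 := by
  have h := Am_add C h2 hinv htr hl τ 0 0
  rw [add_zero] at h
  linear_combination -h

include h2 hl in
theorem Am_eq_zero (τ : G ≃* G) (a : F) (h : Am C hinv htr τ a = 0) : a = 0 := by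
  have h3 := center_map C h2 hinv htr hl τ.symm _ h
  rwa [MulEquiv.symm_apply_apply, xa_spec] at h3

include h2 hl in
theorem Am_inj (τ : G ≃* G) (a b : F) (h : Am C hinv htr τ a = Am C hinv htr τ b) : a = b := by
  have h0 : Am C hinv htr τ (a + b) = 0 := by
    rw [Am_add C h2 hinv htr hl, h]
    linear_combination Am C hinv htr τ b * h2
  have := Am_eq_zero C h2 hinv htr hl τ _ h0
  linear_combination this - b * h2

include h2 hl in
theorem Am_T (τ : G ≃* G) (a a' : F) (h : a * φ a' + a' * φ a = 0) :
    Am C hinv htr τ a * φ (Am C hinv htr τ a') + Am C hinv htr τ a' * φ (Am C hinv htr τ a) = 0 := by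
  have hc : ⁅xa C hinv htr a, xa C hinv htr a'⁆ = 1 := by
    rw [eq_one_iff C]
    refine ⟨α_comm C h2 _ _, ?_⟩
    rw [β_comm C h2, xa_spec, xa_spec]
    exact h
  have h1 := congrArg τ hc
  rw [map_commutatorElement, map_one] at h1
  have h3 := congrArg C.β h1
  rwa [β_comm C h2, β_one] at h3

include h2 hl in
theorem Am_N (τ : G ≃* G) (a d : F) (h : a * φ a = d * φ d) :
    Am C hinv htr τ a * φ (Am C hinv htr τ a) = Am C hinv htr τ d * φ (Am C hinv htr τ d) := by
  have hsq : xa C hinv htr a * xa C hinv htr a = xa C hinv htr d * xa C hinv htr d := by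
    apply C.inj
    · rw [α_sq C h2, α_sq C h2]
    · rw [β_sq C h2, β_sq C h2, xa_spec, xa_spec]
      exact h
  have h1 := congrArg (fun x => C.β (τ x)) hsq
  simp only [map_mul] at h1
  rwa [β_sq C h2, β_sq C h2] at h1

include h2 hinv in
theorem fix_sqrt (c : F) (hc : φ c = c) : ∃ d, φ d = d ∧ d * d = c := by
  obtain ⟨d, hd⟩ := Finite.surjective_of_injective (f := fun a : F => a * a)
    (fun a b h => sq_inj h2 a b h) c
  simp only at hd
  refine ⟨d, ?_, hd⟩
  apply sq_inj h2
  rw [← map_mul, hd, hc]

include h2 hinv htr hl in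
/-- Every automorphism acts on the first coordinate by `a ↦ l * ρ a` with `ρ` a field
endomorphism, and on the centre by `b ↦ l * φ l * ρ b`. -/
theorem aut_structure (τ : G ≃* G) :
    ∃ (l : F) (ρ : F →+* F), l ≠ 0 ∧ (∀ x, C.α (τ x) = l * ρ (C.α x)) ∧
      ∀ z, C.α z = 0 → C.β (τ z) = l * φ l * ρ (C.β z) := by
  classical
  have hAadd : ∀ a b, Am C hinv htr τ (a + b) = Am C hinv htr τ a + Am C hinv htr τ b :=
    Am_add C h2 hinv htr hl τ
  have hA0 : Am C hinv htr τ 0 = 0 := Am_zero C h2 hinv htr hl τ
  have hAinj : ∀ a b, Am C hinv htr τ a = Am C hinv htr τ b → a = b := Am_inj C h2 hinv htr hl τ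
  have hAne : ∀ a, a ≠ 0 → Am C hinv htr τ a ≠ 0 :=
    fun a ha h => ha (Am_eq_zero C h2 hinv htr hl τ a h)
  have hAT := Am_T C h2 hinv htr hl τ
  have hAN := Am_N C h2 hinv htr hl τ
  have hAα := α_map C h2 hinv htr hl τ
  generalize Am C hinv htr τ = A at hAadd hA0 hAinj hAne hAT hAN hAα
  obtain ⟨l, hl1⟩ : ∃ l, l = A 1 := ⟨_, rfl⟩
  have hl0 : l ≠ 0 := by rw [hl1]; exact hAne 1 one_ne_zero
  have hφl0 : φ l ≠ 0 := fun h => hl0 (phi_eq_zero hinv l h)
  -- lines go to lines
  have hline : ∀ a c, a ≠ 0 → φ c = c → φ (A (c * a) / A a) = A (c * a) / A a := by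
    intro a c ha hc
    have hT := hAT a (c * a) (by rw [map_mul, hc]; linear_combination a * c * φ a * h2)
    have hAa := hAne a ha
    have hφAa : φ (A a) ≠ 0 := fun h => hAa (phi_eq_zero hinv _ h)
    rw [map_div₀, div_eq_div_iff hφAa hAa]
    linear_combination hT - (A (c * a) * φ (A a)) * h2
  have hσK : ∀ c, φ c = c → φ (A c / l) = A c / l := by
    intro c hc
    have := hline 1 c one_ne_zero hc
    rwa [mul_one, ← hl1] at this
  have hKsurj : ∀ u, φ u = u → ∃ k, φ k = k ∧ A k = l * u := by
    intro u hu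
    let f : {c : F // φ c = c} → {c : F // φ c = c} := fun c => ⟨A c.1 / l, hσK c.1 c.2⟩
    have hf : Function.Injective f := by
      intro c d hcd
      have h1 : A c.1 / l = A d.1 / l := congrArg Subtype.val hcd
      exact Subtype.ext (hAinj _ _ ((div_left_inj' hl0).mp h1))
    obtain ⟨k, hk⟩ := Finite.surjective_of_injective hf ⟨u, hu⟩
    refine ⟨k.1, k.2, ?_⟩
    have h1 : A k.1 / l = u := congrArg Subtype.val hk
    rw [← h1]
    field_simp
  have hsemi1 : ∀ a c, φ a ≠ a → φ c = c → A (c * a) = A c / l * A a := by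
    intro a c ha hc
    have ha0 : a ≠ 0 := by
      rintro rfl
      exact ha (map_zero φ)
    have h1a : (1 + a) ≠ 0 := by
      intro h
      apply ha
      have : a = 1 := by linear_combination h - h2
      rw [this, map_one]
    obtain ⟨s, hs⟩ : ∃ s, s = A (c * a) / A a := ⟨_, rfl⟩
    obtain ⟨s', hs'⟩ : ∃ s', s' = A (c * (1 + a)) / A (1 + a) := ⟨_, rfl⟩
    have hsK : φ s = s := by rw [hs]; exact hline a c ha0 hc
    have hs'K : φ s' = s' := by rw [hs']; exact hline (1 + a) c h1a hc
    have hAa := hAne a ha0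
    have hA1a := hAne (1 + a) h1a
    have e1 : A (c * a) = s * A a := by rw [hs]; field_simp
    have e2 : A (c * (1 + a)) = s' * A (1 + a) := by rw [hs']; field_simp
    have e3 : A (c * (1 + a)) = A c + A (c * a) := by rw [mul_add, mul_one, hAadd]
    have e4 : A (1 + a) = l + A a := by rw [hAadd, ← hl1]
    have e5 : A c - s' * l = (s' - s) * A a := by
      rw [e4] at e2
      linear_combination e2 - e3 - e1
    by_cases hss : s' = s
    · rw [hss, sub_self, zero_mul] at e5
      have e6 : A c / l = s := by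
        rw [div_eq_iff hl0]
        linear_combination e5
      rw [e1, e6]
    · exfalso
      have hne : s' - s ≠ 0 := sub_ne_zero.mpr hss
      have hAal : A a / l = (A c / l - s') / (s' - s) := by
        rw [eq_div_iff hne, div_mul_eq_mul_div, div_eq_iff hl0]
        have : (A c / l - s') * l = A c - s' * l := by field_simp
        rw [this]
        linear_combination -e5
      have hK : φ (A a / l) = A a / l := by
        rw [hAal, map_div₀, map_sub, map_sub, hσK c hc, hs'K, hsK]
      obtain ⟨k, hk, hAk⟩ := hKsurj _ hK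
      have hAk' : A k = A a := by
        rw [hAk]
        field_simp
      have hka := hAinj _ _ hAk'
      rw [← hka] at ha
      exact ha hk
  have hsemi : ∀ a c, φ c = c → A (c * a) = A c / l * A a := by
    intro a c hc
    by_cases ha : φ a = a
    · by_cases ha0 : a = 0
      · rw [ha0, mul_zero, hA0, mul_zero]
      · obtain ⟨b, hb⟩ := hl
        have hab : φ (a * b) ≠ a * b := by
          rw [map_mul, ha]
          intro h
          exact hb (mul_left_cancel₀ ha0 h)
        have hAb : A b ≠ 0 := hAne b (by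
          rintro rfl
          exact hb (map_zero φ))
        have e1 := hsemi1 (a * b) c hab hc
        have e2 := hsemi1 b a hb ha
        have e3 := hsemi1 b (c * a) hb (by rw [map_mul, hc, ha])
        rw [mul_assoc] at e3
        have e4 : A (c * a) / l * A b = A c / l * (A a / l) * A b := by
          rw [← e3, e1, e2]
          ring
        have h4 := mul_right_cancel₀ hAb e4
        calc A (c * a) = A (c * a) / l * l := by field_simp
          _ = A c / l * (A a / l) * l := by rw [h4]
          _ = A c / l * A a := by field_simp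
    · exact hsemi1 a c ha hc
  -- the normalised map
  obtain ⟨A', hA'⟩ : ∃ A' : F → F, ∀ a, A' a = A a / l := ⟨fun a => A a / l, fun a => rfl⟩
  have hA'add : ∀ a b, A' (a + b) = A' a + A' b := by
    intro a b
    rw [hA', hA', hA', hAadd, add_div]
  have hA'0 : A' 0 = 0 := by rw [hA', hA0, zero_div]
  have hA'1 : A' 1 = 1 := by rw [hA', ← hl1, div_self hl0]
  have hA'K : ∀ c, φ c = c → φ (A' c) = A' c := by
    intro c hc
    rw [hA']
    exact hσK c hc
  have hA'semi : ∀ a c, φ c = c → A' (c * a) = A' c * A' a := by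
    intro a c hc
    rw [hA', hA', hA', hsemi a c hc]
    ring
  have hN : ∀ a, A' a * φ (A' a) = A' (a * φ a) := by
    intro a
    obtain ⟨d, hdK, hdd⟩ := fix_sqrt h2 hinv (a * φ a) (by rw [map_mul, hinv, mul_comm])
    have h1 := hAN a d (by rw [hdK, hdd])
    have h3 := hA'K d hdK
    have h5 : A' (d * d) = A' d * A' d := hA'semi d d hdK
    rw [← hdd, h5]
    nth_rewrite 2 [← h3]
    rw [hA', hA', map_div₀, map_div₀]
    rw [div_mul_div_comm, div_mul_div_comm, h1]
  have hTr : ∀ a, A' a + φ (A' a) = A' (a + φ a) := by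
    intro a
    have h1 := hN (1 + a)
    have e1 : (1 + a) * φ (1 + a) = 1 + (a + φ a) + a * φ a := by
      rw [map_add, map_one]
      ring
    rw [e1, hA'add, hA'add, hA'add, hA'1, ← hN a, map_add, map_one] at h1
    linear_combination h1
  have hmul : ∀ a b, A' (a * b) = A' a * A' b := by
    intro a b
    by_cases ha : φ a = a
    · exact hA'semi b a ha
    · have hden : a + φ a ≠ 0 := by
        intro h
        apply ha
        linear_combination h - a * h2
      obtain ⟨y, hy⟩ : ∃ y, y = (b + φ b) / (a + φ a) := ⟨_, rfl⟩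
      have hyE : y * (a + φ a) = b + φ b := by rw [hy]; field_simp
      have hyK : φ y = y := by
        rw [hy, map_div₀, map_add, map_add, hinv, hinv, add_comm (φ b), add_comm (φ a)]
      obtain ⟨x, hx⟩ : ∃ x, x = b + y * a := ⟨_, rfl⟩
      have hxK : φ x = x := by
        rw [hx, map_add, map_mul, hyK]
        linear_combination hyE + (φ b - y * a) * h2
      have hb : b = x + y * a := by
        rw [hx]
        linear_combination (-(y * a)) * h2
      have haa : a * a = (a + φ a) * a + a * φ a := by
        linear_combination (-(a * φ a)) * h2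
      have htrK : φ (a + φ a) = a + φ a := by rw [map_add, hinv, add_comm]
      have hnK : φ (a * φ a) = a * φ a := by rw [map_mul, hinv, mul_comm]
      have hAaa : A' (a * a) = A' a * A' a := by
        rw [haa, hA'add, hA'semi a _ htrK, ← hTr a, ← hN a]
        linear_combination (A' a * φ (A' a)) * h2
      have hab : a * b = x * a + y * (a * a) := by
        rw [hb]
        ring
      rw [hab, hA'add, hA'semi a x hxK, hA'semi (a * a) y hyK, hAaa]
      have hAb : A' b = A' x + A' y * A' a := by
        rw [hb, hA'add, hA'semi a y hyK]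
      rw [hAb]
      ring
  let ρ : F →+* F :=
    { toFun := A'
      map_one' := hA'1
      map_mul' := hmul
      map_zero' := hA'0
      map_add' := hA'add }
  have hρ : ∀ a, ρ a = A a / l := hA'
  refine ⟨l, ρ, hl0, ?_, ?_⟩
  · intro x
    rw [hAα x, hρ]
    field_simp
  · intro z hz
    have hc : φ (C.β z) = C.β z := by
      have h := C.rel z
      rw [hz, zero_mul] at h
      linear_combination h - C.β z * h2
    obtain ⟨d, hdK, hdd⟩ := fix_sqrt h2 hinv _ hc
    have hz' : z = xa C hinv htr d * xa C hinv htr d := by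
      apply C.inj
      · rw [hz, α_sq C h2]
      · rw [β_sq C h2, xa_spec, hdK, hdd]
    have e1 : C.β (τ z) = A d * φ (A d) := by
      rw [hz', map_mul, β_sq C h2, hAα, xa_spec]
    have e2 : φ (A d / l) = A d / l := hσK d hdK
    rw [e1, ← hdd, map_mul, hρ]
    rw [map_div₀] at e2
    have e3 : φ (A d) = φ l * (A d / l) := by
      rw [← e2]
      field_simp
    rw [e3]
    field_simp

end Aut

theorem pow_pow_fix {M : Type*} [Monoid M] (a : M) (Q : ℕ) (h : a ^ Q = a) (k : ℕ) :
    a ^ (Q ^ k) = a := by
  induction k with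
  | zero => simp
  | succ k ih => rw [pow_succ, pow_mul, ih, h]

end Cfsg.Agent.Lib.Helper46.SU3Aut
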